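import Cfsg.Agent.Lib.Cert.HS.M

set_option autoImplicit false
set_option maxRecDepth 100000

namespace Cfsg.Agent.Ct.HSb

open Cfsg.Agent.PC

open Cfsg.Agent.Fi Cfsg.Agent.Ct
open Cfsg.Agent.Ct.HS (pt al T pr card)
def W0_t : TL := (TL.node (TL.node (TL.node (TL.leaf [nat_lit 0, nat_lit 1, nat_lit 0, nat_lit 2, nat_lit 0, nat_lit 1, nat_lit 2, nat_lit 1, nat_lit 2, nat_lit 1, nat_lit 0, nat_lit 2, nat_lit 0, nat_lit 1, nat_lit 0]) (TL.leaf [nat_lit 0, nat_lit 1, nat_lit 0, nat_lit 2, nat_lit 0, nat_lit 1, nat_lit 2, nat_lit 1, nat_lit 2, nat_lit 1, nat_lit 0, nat_lit 2, nat_lit 0, nat_lit 1, nat_lit 0, nat_lit 1, nat_lit 0, nat_lit 2, nat_lit 1, nat_lit 2, nat_lit 1, nat_lit 2, nat_lit 1, nat_lit 0, nat_lit 1, nat_lit 0, nat_lit 1, nat_lit 2, nat_lit 0, nat_lit 1, nat_lit 2, nat_lit 1, nat_lit 2, nat_lit 1, nat_lit 0, nat_lit 1, nat_lit 0, nat_lit 1, nat_lit 0, nat_lit 1, nat_lit 2,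 nat_lit 0, nat_lit 2, nat_lit 0, nat_lit 1, nat_lit 2, nat_lit 1, nat_lit 2, nat_lit 0, nat_lit 1, nat_lit 2, nat_lit 0, nat_lit 2])) (TL.node (TL.leaf [nat_lit 0, nat_lit 1, nat_lit 2, nat_lit 1, nat_lit 0, nat_lit 2, nat_lit 0, nat_lit 2, nat_lit 1, nat_lit 0, nat_lit 2, nat_lit 1, nat_lit 0, nat_lit 2, nat_lit 0, nat_lit 1, nat_lit 2, nat_lit 1, nat_lit 0, nat_lit 2, nat_lit 0, nat_lit 2, nat_lit 1, nat_lit 0, nat_lit 2, nat_lit 1, nat_lit 0, nat_lit 2]) (TL.leaf [nat_lit 0, nat_lit 1, nat_lit 0, nat_lit 1, nat_lit 2, nat_lit 0, nat_lit 2, nat_lit 1, nat_lit 2, nat_lit 0, nat_lit 1, nat_lit 0, nat_lit 1, nat_lit 0, nat_lit 2, nat_lit 1, nat_lit 2, nat_lit 0, nat_lit 2, nat_lit 1, nat_lit 2, nat_lit 0, nat_lit 2, nat_lit 0, nat_lit 2, nat_lit 0, nat_lit 1, nat_lit 0, nat_lit 2, nat_lit 0, nat_lit 1, nat_lit 2, nat_lit 0, nat_lit 1, nat_lit 2, nat_lit 0, nat_lit 2, nat_lit 0, nat_lit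 1, nat_lit 2, nat_lit 0, nat_lit 1, nat_lit 2, nat_lit 1, nat_lit 2, nat_lit 1, nat_lit 0, nat_lit 1, nat_lit 0, nat_lit 1, nat_lit 2, nat_lit 1, nat_lit 2]))) (TL.node (TL.node (TL.leaf [nat_lit 2, nat_lit 0, nat_lit 1, nat_lit 0, nat_lit 1, nat_lit 2, nat_lit 0, nat_lit 2, nat_lit 0, nat_lit 1, nat_lit 0, nat_lit 2, nat_lit 1, nat_lit 2, nat_lit 0, nat_lit 1, nat_lit 0, nat_lit 2, nat_lit 0, nat_lit 1, nat_lit 0, nat_lit 1, nat_lit 0, nat_lit 1, nat_lit 0, nat_lit 2, nat_lit 0, nat_lit 1, nat_lit 2]) (TL.leaf [nat_lit 0, nat_lit 1, nat_lit 0, nat_lit 2, nat_lit 0, nat_lit 2, nat_lit 0, nat_lit 2, nat_lit 1, nat_lit 0, nat_lit 2, nat_lit 0, nat_lit 1, nat_lit 2, nat_lit 0, nat_lit 1, nat_lit 2, nat_lit 0, nat_lit 1, nat_lit 2, nat_lit 0, nat_lit 2, nat_lit 0, nat_lit 1, nat_lit 2, nat_lit 1, nat_lit 2, nat_lit 0, nat_lit 2, nat_lit 0, nat_lit 2, nat_lit 0, nat_lit 1, nat_lit 0, nat_lit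 1, nat_lit 0, nat_lit 2, nat_lit 0, nat_lit 2, nat_lit 0, nat_lit 1, nat_lit 0, nat_lit 2, nat_lit 0, nat_lit 2, nat_lit 1, nat_lit 0, nat_lit 2, nat_lit 1, nat_lit 0, nat_lit 1, nat_lit 2, nat_lit 0, nat_lit 1, nat_lit 2, nat_lit 1, nat_lit 2, nat_lit 1, nat_lit 0, nat_lit 1, nat_lit 0, nat_lit 1])) (TL.leaf [nat_lit 0, nat_lit 1, nat_lit 0, nat_lit 2, nat_lit 0, nat_lit 2, nat_lit 0, nat_lit 2, nat_lit 1, nat_lit 0, nat_lit 2, nat_lit 0, nat_lit 1, nat_lit 2, nat_lit 0, nat_lit 1, nat_lit 2, nat_lit 0, nat_lit 1, nat_lit 2, nat_lit 0, nat_lit 2, nat_lit 0, nat_lit 1, nat_lit 2, nat_lit 1, nat_lit 2, nat_lit 0, nat_lit 2, nat_lit 1, nat_lit 2, nat_lit 0, nat_lit 1, nat_lit 0, nat_lit 2, nat_lit 1, nat_lit 2, nat_lit 1, nat_lit 2, nat_lit 0, nat_lit 1, nat_lit 0, nat_lit 2, nat_lit 0, nat_lit 1, nat_lit 0, nat_lit 1, nat_lit 0, nat_lit 2, nat_lit 0, nat_lit 1, nat_lit 2])))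
noncomputable def W0 (i : ℕ) : List ℕ := TL.get W0_t i
def Q0f_t : TN := (TN.node (TN.leaf (nat_lit 0x3ad5b0e80f849f0940d2fc729ab4be708dcb72238b26921d43548750544264d5d8a4dab318a3aaa58f8d0e6500c43102086e030e0445d2b05f2d18a573d32806a58d65acddbd82784de374df186508ac5ae3eece254603cb0b0eb87e182b94e04136223218abe2679a6d68cc7ae616202745292008ae507d3a9c22100a940c786847ebdd9d51655e3461d8a68815ab006ba6b472aa32167547386e59ed4c22de3abab4e56b12b1271e09217934b045910595b107ef29973009b0e5670cbebc8dc716acd826a94a01e25f506d866b769280c60d205442c986b27f45eae76accdb993d9cb6b00a30bcf0d25755aaa14f0960024414542e0ce9c36b5c983f0f131ae8eea2a6120e00b16908c71c58e3c0a4a4700c346be2c04d0f6acd846a92d41ed05026d1ee49132a60c9d81f443ec82263115ebc76cd8e3033d5d27509cb00ab8d296b596284f02a91ae890a08654e9c10b4a3f2c5cf19244d210a634748bd4659bb7857c1c541bdd48121bebe96ddcbb6acca6ea85d41ec86029e5a6934d6090a2f16344c2d01893181dbc7a51a91aed9cc233495b058b96af63582a14f2ef6302414200c34e9c36699bf8f3873a9925c22a654f51ab22008007d4e28341187))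 (TN.leaf (nat_lit 0x98d254b80b09e03d6418a22305c6bd6d9c382fab046d60ca0a2e270150c8ec71072a98761abdd2c25817857c7617a14d2274847b14ed5fd2c4b4382558c02ba66ca2e9142e4d89267bc20dca924a986afb5154a43e8ea393d16a95be0d5a1b236924b8ea40150a82a37072a12306c790738623094013877f449d69a66586053ed11198ca602f6e4de173973d6620b266f1905387623a958b5e5d84958e2af3113476ca08a)))
noncomputable def Q0f (i : ℕ) : ℕ := get9 Q0f_t (nat_lit 7) (nat_lit 127) i
noncomputable def Q0 (j c : ℕ) : ℕ := Q0f (Nat.add (Nat.mul j (nat_lit 100)) c)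
noncomputable def q0 (j : ℕ) : Cfsg.Spor.HS := ev al (W0 j)
noncomputable def c0 : ℕ → ℕ := tabE T Q0 W0 (nat_lit 7)
theorem cc0 : Nat.beq (rng c0 (nat_lit 0) (nat_lit 100)) (nat_lit 0) = true := by decide +kernel
theorem hc : ∀ i < 100, c0 i = 0 := by
  have h := zero_lt_zero c0
  have h := zero_lt_add (a := (nat_lit 0)) (n := (nat_lit 100)) (b := (nat_lit 100)) h cc0 rfl
  exact h
def CV0_t : TN := (TN.leaf (nat_lit 0x8a0b6605ba6e8e5763a2486699072e864b2666cadb61b8eb8919929a2ba3ae196499e8de78e7ad766c6582c8268d96deba09ad6a072486c82e519622a2d85b9956608a14dd76075a8eba64))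
noncomputable def CV0 (i : ℕ) : ℕ := get9 CV0_t (nat_lit 6) (nat_lit 63) i
def CV1_t : TN := (TN.leaf (nat_lit 0xadd923024940b6c8ed01dac002d840b230008e4020b5854da3096ba190250148a80346ad4f58c1aea0246a08c06e8b2401c000b2aadbac0623c2889800096002ca9ba5aa73c65ae0900029))
noncomputable def CV1 (i : ℕ) : ℕ := get9 CV1_t (nat_lit 6) (nat_lit 63) i
def CV2_t : TN := (TN.leaf (nat_lit 0x1ba1b019000001cdc000600023640030000ae000ca126ab923aac02101c028b00000ce4c23b0082201cc006c0b23880033000a5b8e4000a408ec86400002b0248d14d0a800306a0880000))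
noncomputable def CV2 (i : ℕ) : ℕ := get9 CV2_t (nat_lit 6) (nat_lit 63) i
def CV3_t : TN := (TN.leaf (nat_lit 0x20000000000000000000000001b000000000002f6000320883400000090000d8000000000001300320000100000000000000000000000000))
noncomputable def CV3 (i : ℕ) : ℕ := get9 CV3_t (nat_lit 5) (nat_lit 31) i
def CV4_t : TN := (TN.leaf (nat_lit 0xc8000000000000900020000000000000000000008800000000000000000000000800000000000000000008a00000000000000000000140))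
noncomputable def CV4 (i : ℕ) : ℕ := get9 CV4_t (nat_lit 5) (nat_lit 31) i
noncomputable def l0 : Lev := ⟨(nat_lit 95), (nat_lit 100), (nat_lit 6), CV0⟩
noncomputable def lt : List Lev := [⟨(nat_lit 48), (nat_lit 77), (nat_lit 5), CV1⟩, ⟨(nat_lit 90), (nat_lit 60), (nat_lit 4), CV2⟩, ⟨(nat_lit 89), (nat_lit 12), (nat_lit 3), CV3⟩, ⟨(nat_lit 73), (nat_lit 8), (nat_lit 0), CV4⟩]
theorem ch : Ch pt 100 q0 Q0 7 8 (l0 :: lt) :=
  ⟨pr.1, reps_tabs (pr.2) (by decide +kernel) hc, by decide +kernel, Lee.cardLE_top card (by decide)⟩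
def SO_t : TN := (TN.leaf (nat_lit 0xff7effbebefafbfffffbbfbffffbfeffbaffefffafbfffffeb))
noncomputable def SO (i : ℕ) : ℕ := get9 SO_t (nat_lit 2) (nat_lit 3) i
def SV_t : TN := (TN.leaf (nat_lit 0x4a481c05b25945c95545474d61a9502d855265829361b82d68d89552371d76d95a24c95091192575d51b954720b1274a21b75269d7244d995555486c65345b4dd71971855b22076588c041))
noncomputable def SV (i : ℕ) : ℕ := get9 SV_t (nat_lit 6) (nat_lit 63) i
def rt (i : ℕ) : ℕ := Nat.land (Nat.shiftRight (nat_lit 28544) (Nat.mul (nat_lit 7) i)) (nat_lit 127)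
def sz (i : ℕ) : ℕ := Nat.land (Nat.shiftRight (nat_lit 0x9a58080) (Nat.mul (nat_lit 7) i)) (nat_lit 127)
noncomputable def s0 : ℕ → ℕ := soE Q0 (nat_lit 6) (nat_lit 100) (nat_lit 8) (nat_lit 3) SV SO rt
theorem ss0 : Nat.beq (rng s0 (nat_lit 0) (nat_lit 100)) (nat_lit 0) = true := by decide +kernel
theorem hs : ∀ i < 100, s0 i = 0 := by
  have h := zero_lt_zero s0
  have h := zero_lt_add (a := (nat_lit 0)) (n := (nat_lit 100)) (b := (nat_lit 100)) h ss0 rfl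
  exact h
theorem hsz : ∀ i ≤ 3, 1 ≤ i → cnt SO i 100 = sz i := by decide +kernel
def B0 : List ℕ := [nat_lit 95, nat_lit 48, nat_lit 90, nat_lit 89, nat_lit 73]
theorem md0 : Md pt 100 B0 al T 3 := ch.md (pr.2) rfl

end Cfsg.Agent.Ct.HSb
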